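/- Perfect objects detect isomorphisms of quasi-coherent objects through `Rf_* RHom`. -/
import Groth.Prelude.Def_DCoh4
import Groth.Agent.PerfGen.Coloc
import Groth.Agent.RHomCx.Props
import Groth.Agent.RHomCx.Pairing
import Groth.Agent.PerfPush.Unit
import Groth.Agent.DerPush.Basic

set_option autoImplicit false
set_option backward.isDefEq.respectTransparency false
set_option backward.isDefEq.respectTransparency.types false
set_option linter.style.haveILetI false
universe u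

open CategoryTheory Limits AlgebraicGeometry HomologicalComplex Pretriangulated

attribute [local instance] HasDerivedCategory.standard

namespace Groth.Agent.PerfTest

open Groth.Agent.KFlat Groth.Agent.RHomCx

variable {X S : Scheme.{u}}

/-- `O ⊗^L E = E` -/
theorem nonempty_lt_unit (E : CochainComplex X.Modules ℤ) [DCoh.HasLTensorCx E] :
    Nonempty ((DCoh.LTensorCx E).obj (DCoh.inD X (Coh.structureModule X)) ≅ DCoh.toD X E) := by
  have hK : DCoh.IsKFlat ((single X.Modules (ComplexShape.up ℤ) 0).obj (Coh.structureModule X)) :=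
    PerfLocus.isKFlat_sg 0 (DerPerf.isFlat_structureModule X)
  exact ⟨(DCoh.LTensorCx E).mapIso ((DerivedCategory.singleFunctorIsoCompQ X.Modules 0).app _) ≪≫
    KFlat.ltIso E hK ≪≫ DerivedCategory.Q.mapIso (swapIso (braid X.sheaf) _ E ≪≫ feUnitIso.app E)⟩

/-- maps detected by `Rf_* RHom(E, -)` -/
theorem bijective_of_isIso (f : X ⟶ S) [DCoh.HasRpush f] (E : CochainComplex X.Modules ℤ) [DCoh.HasLTensorCx E]
    [DCoh.HasRSheafHom E] {F G : DCoh.D X} (φ : F ⟶ G)
    (h : IsIso ((DCoh.Rpush f).map ((DCoh.RSheafHom E).map φ))) :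
    Function.Bijective fun a : DCoh.toD X E ⟶ F => a ≫ φ := by
  haveI := KFlat.hasLpull f
  obtain ⟨adj⟩ := DerPush.nonempty_lpull_adj_rpush f
  obtain ⟨u⟩ := PerfPush.nonempty_lpull_unit f
  obtain ⟨e⟩ := nonempty_lt_unit E
  let i : DCoh.toD X E ≅ (DCoh.Lpull f ⋙ DCoh.LTensorCx E).obj (DCoh.inD S (Coh.structureModule S)) :=
    e.symm ≪≫ (DCoh.LTensorCx E).mapIso u.symm
  let a := adj.comp (DCoh.RSheafHomAdj E)
  let Φ : ∀ Z : DCoh.D X, (DCoh.toD X E ⟶ Z) ≃ (DCoh.inD S (Coh.structureModule S) ⟶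
      (DCoh.RSheafHom E ⋙ DCoh.Rpush f).obj Z) := fun Z => (Iso.homFromEquiv i).trans (a.homEquiv _ Z)
  have hnat : ∀ t : DCoh.toD X E ⟶ F, Φ G (t ≫ φ) = Φ F t ≫ (DCoh.RSheafHom E ⋙ DCoh.Rpush f).map φ := fun t => by
    change a.homEquiv _ _ (i.inv ≫ t ≫ φ) = a.homEquiv _ _ (i.inv ≫ t) ≫ _
    rw [← Category.assoc]
    exact a.homEquiv_naturality_right _ _
  haveI : IsIso ((DCoh.RSheafHom E ⋙ DCoh.Rpush f).map φ) := h
  refine ⟨fun x y hxy => (Φ F).injective ?_, fun y => ⟨(Φ F).symm (Φ G y ≫ inv ((DCoh.RSheafHom E ⋙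
    DCoh.Rpush f).map φ)), (Φ G).injective ?_⟩⟩
  · rw [← cancel_mono ((DCoh.RSheafHom E ⋙ DCoh.Rpush f).map φ), ← hnat, ← hnat]
    exact congrArg (Φ G) hxy
  · dsimp only
    rw [hnat, Equiv.apply_symm_apply, Category.assoc, IsIso.inv_hom_id, Category.comp_id]

/-- **perfect objects detect isomorphisms** -/
theorem isIso_of_perfect [CompactSpace X] [QuasiSeparatedSpace X] {F G : DCoh.D X} (hF : DCoh.IsQCohD F)
    (hG : DCoh.IsQCohD G) (φ : F ⟶ G)
    (h : ∀ Z : DCoh.D X, DCoh.IsPerfect Z → Function.Bijective fun a : Z ⟶ F => a ≫ φ) : IsIso φ := by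
  obtain ⟨G₀, -, hgen, hperf⟩ := PerfGen.exists_gen_qcohD X
  obtain ⟨C, g, δ, hT⟩ := distinguished_cocone_triangle φ
  refine (Triangle.isZero₃_iff_isIso₁ _ hT).1 (hgen C ?_ fun n x => ?_)
  · exact (PerfGen.localizing_qcohD X).obj₃ _ hT hF hG
  · have h1 : x ≫ δ = 0 := by
      have h0 : (x ≫ δ) ≫ φ⟦(1 : ℤ)⟧' = 0 := by
        have := comp_distTriang_mor_zero₃₁ _ hT
        exact (Category.assoc _ _ _).trans ((congrArg (x ≫ ·) this).trans comp_zero)
      have hZ : DCoh.IsPerfect ((G₀⟦n⟧)⟦(-1 : ℤ)⟧) := DQCoh.perfect_shift (DQCoh.perfect_shift hperf n) (-1)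
      obtain ⟨y, hy⟩ := (shiftFunctor (DCoh.D X) (1 : ℤ)).map_surjective
        ((shiftFunctorCompIsoId (DCoh.D X) (-1 : ℤ) 1 (by omega)).hom.app (G₀⟦n⟧) ≫ x ≫ δ)
      have hy0 : y ≫ φ = 0 := (shiftFunctor (DCoh.D X) (1 : ℤ)).map_injective (by
        rw [Functor.map_comp, hy, Functor.map_zero, Category.assoc, h0, comp_zero])
      rw [(h _ hZ).1 (hy0.trans zero_comp.symm), Functor.map_zero] at hy
      exact (cancel_epi ((shiftFunctorCompIsoId (DCoh.D X) (-1 : ℤ) 1 (by omega)).hom.app (G₀⟦n⟧))).1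
        (hy.symm.trans comp_zero.symm)
    obtain ⟨y, hy⟩ := Triangle.coyoneda_exact₃ _ hT x h1
    obtain ⟨z, hz⟩ := (h _ (DQCoh.perfect_shift hperf n)).2 y
    have h2 : φ ≫ g = 0 := comp_distTriang_mor_zero₁₂ _ hT
    have hy' : x = y ≫ g := hy
    have hz' : z ≫ φ = y := hz
    rw [hy', ← hz', Category.assoc, h2, comp_zero]

end Groth.Agent.PerfTest
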